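import Mathlib
import Cfsg.Agent.H613.KKL.Defs

/-!
# S4546: elementary criteria for the configuration `Cfg0`

* `D1` : characteristic two;
* `D2` : normal 2-subgroups of `C(z)`, `z ∈ D`;
* `D3` : the 2-subgroups of `C(x)`.
-/

set_option autoImplicit false

open Cfsg Cfsg.Agent.H613.KKL

universe u

namespace Cfsg.Agent.H323.KKL

section basic

variable {S : Type u} [Group S] {D : Subgroup S} {x : S}

theorem E8.comm (h : E8 D) : ∀ a ∈ D, ∀ b ∈ D, a * b = b * a := by
  intro a ha b hb
  have h1 := h.inv a ha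
  have h2 := h.inv b hb
  have h3 := h.inv (a * b) (D.mul_mem ha hb)
  have e1 : a⁻¹ = a := inv_eq_of_mul_eq_one_left h1
  have e2 : b⁻¹ = b := inv_eq_of_mul_eq_one_left h2
  have e3 : (a * b)⁻¹ = a * b := inv_eq_of_mul_eq_one_left h3
  rw [mul_inv_rev, e1, e2] at e3
  exact e3.symm

/-- elements of odd order in a group of exponent two are trivial -/
theorem eq_one_of_odd {g : S} (h2 : g * g = 1) (ho : Odd (orderOf g)) : g = 1 := by
  have h1 : orderOf g ∣ 2 := orderOf_dvd_of_pow_eq_one (by rw [pow_two, h2])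
  rcases (Nat.dvd_prime Nat.prime_two).1 h1 with h | h
  · exact orderOf_eq_one_iff.1 h
  · rw [h] at ho
    exact absurd ho (by decide)

/-- the centralizer of the subgroup generated by `z` -/
theorem centralizer_zpowers (z : S) :
    Subgroup.centralizer ((Subgroup.zpowers z : Subgroup S) : Set S) = Subgroup.centralizer ({z} : Set S) := by
  ext g
  rw [Subgroup.mem_centralizer_iff, Subgroup.mem_centralizer_singleton_iff]
  constructor
  · intro h
    exact (h z (Subgroup.mem_zpowers z)).symm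
  · rintro h w ⟨k, rfl⟩
    have : Commute z g := h.symm
    exact (this.zpow_left k).eq

/-- `rad` for a single element -/
theorem rad_single (h : Cfg0 D x) {z : S} (hz : z ∈ D)
    {N : Subgroup S} (hN2 : IsPGroup 2 N) (hNz : N ≤ Subgroup.centralizer {z})
    (hNn : ∀ c ∈ Subgroup.centralizer ({z} : Set S), ∀ n ∈ N, c * n * c⁻¹ ∈ N) : N ≤ D := by
  refine h.rad (Subgroup.zpowers z) (by rwa [Subgroup.zpowers_le]) N hN2 ?_ ?_
  · rw [centralizer_zpowers]; exact hNz
  · rw [centralizer_zpowers]; exact hNn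

end basic

/-- D1: characteristic 2: if `C_S(z)` has a normal 2-subgroup `N` containing its centralizer (in `C_S(z)`), `z ∈ D#`, then
`C_S(D) = D`, `x = 1` and `|S|_2 = 8`. -/
theorem D1 {S : Type u} [Group S] [Finite S] {D : Subgroup S} {x : S} (h : Cfg0 D x) {z : S} (hz : z ∈ D)
    {N : Subgroup S} (hN2 : IsPGroup 2 N) (hNz : N ≤ Subgroup.centralizer {z})
    (hNn : ∀ c ∈ Subgroup.centralizer ({z} : Set S), ∀ n ∈ N, c * n * c⁻¹ ∈ N)
    (hC : ∀ c ∈ Subgroup.centralizer ({z} : Set S), (∀ n ∈ N, n * c = c * n) → c ∈ N) :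
    x = 1 ∧ (Nat.card S).factorization 2 = 3 ∧ Subgroup.centralizer (D : Set S) = D := by
  have hND : N ≤ D := rad_single h hz hN2 hNz hNn
  have hcomm := E8.comm h.e8
  have hDN : D ≤ N := by
    intro d hd
    refine hC d (Subgroup.mem_centralizer_singleton_iff.2 (hcomm d hd z hz)) ?_
    intro n hn
    exact hcomm n (hND hn) d hd
  have hcen : Subgroup.centralizer (D : Set S) ≤ D := by
    intro g hg
    rw [Subgroup.mem_centralizer_iff] at hg
    refine hND (hC g (Subgroup.mem_centralizer_singleton_iff.2 (hg z hz).symm) ?_)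
    intro n hn
    exact hg n (hND hn)
  have hx : x = 1 := by
    have h1 : x ∈ D := hcen (Subgroup.mem_centralizer_iff.2 h.comm)
    exact eq_one_of_odd (h.e8.inv x h1) h.odd
  refine ⟨hx, ?_, le_antisymm hcen ?_⟩
  · haveI : Fact (Nat.Prime 2) := ⟨Nat.prime_two⟩
    obtain ⟨P⟩ : Nonempty (Sylow 2 S) := inferInstance
    obtain ⟨c, -, hc⟩ := h.syl (P : Subgroup S) P.isPGroup' (by intro q _; rw [hx, mul_one, one_mul])
    have h1 : Nat.card (P : Subgroup S) ≤ Nat.card D := by
      refine Nat.card_le_card_of_injective (fun q : (P : Subgroup S) => (⟨c * q * c⁻¹, hc q q.2⟩ : D)) ?_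
      intro q r hqr
      have h2 : c * (q : S) * c⁻¹ = c * (r : S) * c⁻¹ := congrArg Subtype.val hqr
      exact Subtype.ext (mul_left_cancel (mul_right_cancel h2))
    have h3 : Nat.card (P : Subgroup S) = 2 ^ (Nat.card S).factorization 2 := Sylow.card_eq_multiplicity P
    have hDp : IsPGroup 2 D := IsPGroup.of_card (n := 3) (by rw [h.e8.card]; norm_num)
    obtain ⟨P', hP'⟩ := hDp.exists_le_sylow
    have h4 : Nat.card D ∣ Nat.card (P' : Subgroup S) := Subgroup.card_dvd_of_le hP'
    rw [Sylow.card_eq_multiplicity P', h.e8.card] at h4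
    rw [h3, h.e8.card] at h1
    have h5 : (2 : ℕ) ^ (Nat.card S).factorization 2 ≤ 2 ^ 3 := by simpa using h1
    have h6 : (2 : ℕ) ^ 3 ∣ 2 ^ (Nat.card S).factorization 2 := by simpa using h4
    have h7 := (Nat.pow_le_pow_iff_right (by norm_num : 1 < 2)).1 h5
    have h8 := (Nat.pow_dvd_pow_iff_le_right (by norm_num : 1 < 2)).1 h6
    omega
  · intro d hd
    rw [Subgroup.mem_centralizer_iff]
    intro e he
    exact hcomm e he d hd

/-- D2: cheap kills: a normal 2-subgroup of `C_S(z)` of order `≥ 16`, or with an element of order 4. -/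
theorem D2 {S : Type u} [Group S] [Finite S] {D : Subgroup S} {x : S} (h : Cfg0 D x) {z : S} (hz : z ∈ D)
    {N : Subgroup S} (hN2 : IsPGroup 2 N) (hNz : N ≤ Subgroup.centralizer {z})
    (hNn : ∀ c ∈ Subgroup.centralizer ({z} : Set S), ∀ n ∈ N, c * n * c⁻¹ ∈ N) :
    Nat.card N ≤ 8 ∧ ∀ n ∈ N, n * n = 1 := by
  have hND : N ≤ D := rad_single h hz hN2 hNz hNn
  refine ⟨?_, fun n hn => h.e8.inv n (hND hn)⟩
  rw [← h.e8.card]
  exact Subgroup.card_le_of_le hND

/-- D3: all involutions of `C_S(x)` are conjugate in `S`; 2-subgroups of `C_S(x)` have order at most 8, exponent 2; no `Q8`. -/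
theorem D3 {S : Type u} [Group S] [Finite S] {D : Subgroup S} {x : S} (h : Cfg0 D x) :
    (∀ u v : S, u * u = 1 → u ≠ 1 → u * x = x * u → v * v = 1 → v ≠ 1 → v * x = x * v → IsConj u v) ∧
    (∀ Q : Subgroup S, IsPGroup 2 Q → (∀ q ∈ Q, q * x = x * q) → Nat.card Q ≤ 8 ∧ ∀ q ∈ Q, q * q = 1) := by
  have key : ∀ u : S, u * u = 1 → u ≠ 1 → u * x = x * u → ∃ d ∈ D, d ≠ 1 ∧ IsConj u d := by
    intro u hu hu1 hux
    have h1 : IsPGroup 2 (Subgroup.zpowers u) := by
      refine IsPGroup.of_card (n := 1) ?_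
      rw [Nat.card_zpowers, pow_one]
      exact orderOf_eq_prime (by rw [pow_two, hu]) hu1
    obtain ⟨c, -, hc⟩ := h.syl _ h1 (by
      rintro q ⟨k, rfl⟩
      have : Commute u x := hux
      exact (this.zpow_left k).eq)
    refine ⟨c * u * c⁻¹, hc u (Subgroup.mem_zpowers u), ?_, isConj_iff.2 ⟨c, rfl⟩⟩
    intro h2
    apply hu1
    have h3 : c * u = c := by
      have := congrArg (· * c) h2
      simpa using this
    simpa using h3
  refine ⟨?_, ?_⟩
  · intro u v hu hu1 hux hv hv1 hvx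
    obtain ⟨d, hd, hd1, hud⟩ := key u hu hu1 hux
    obtain ⟨e, he, he1, hve⟩ := key v hv hv1 hvx
    obtain ⟨y, hy⟩ := h.seven
    obtain ⟨k, hk⟩ := hy.trans d hd hd1 e he he1
    exact (hud.trans (isConj_iff.2 ⟨y ^ k, hk⟩)).trans hve.symm
  · intro Q hQ hQx
    obtain ⟨c, -, hc⟩ := h.syl Q hQ hQx
    refine ⟨?_, ?_⟩
    · rw [← h.e8.card]
      refine Nat.card_le_card_of_injective (fun q : Q => (⟨c * q * c⁻¹, hc q q.2⟩ : D)) ?_
      intro q r hqr
      have h2 : c * (q : S) * c⁻¹ = c * (r : S) * c⁻¹ := congrArg Subtype.val hqr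
      exact Subtype.ext (mul_left_cancel (mul_right_cancel h2))
    · intro q hq
      have h1 := h.e8.inv _ (hc q hq)
      have h2 : c * (q * q) * c⁻¹ = 1 := by
        rw [← h1]; group
      have h3 : c * (q * q) = c := by
        have := congrArg (· * c) h2
        simpa using this
      simpa using h3

end Cfsg.Agent.H323.KKL
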