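import Cfsg.Agent.H323.KKL.Crit
import Cfsg.Agent.H400.LieLocal
import Cfsg.Agent.H126.OrdEight
import Cfsg.Agent.LieClassical.FieldTransfer

/-!
# S4546: the groups of Lie type of characteristic two

`E_lie2` : a configuration in a group of Lie type of characteristic two occurs only in `PSL₂(8)`.
-/

set_option autoImplicit false

open Cfsg Cfsg.Agent.H613.KKL Subgroup

universe u

namespace Cfsg.Agent.H323.KKL

variable {S : Type u} [Group S] {D : Subgroup S} {x : S}

theorem mem_normalizer_zpowers {z : S} (hz : z * z = 1) (g : S) :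
    g ∈ normalizer ((zpowers z : Subgroup S) : Set S) ↔ g * z = z * g := by
  have hmem : ∀ w : S, w ∈ zpowers z ↔ w = 1 ∨ w = z := by
    intro w
    constructor
    · rintro ⟨k, rfl⟩
      rcases Int.even_or_odd' k with ⟨m, rfl | rfl⟩
      · left
        show z ^ (2 * m) = 1
        rw [zpow_mul, show z ^ (2 : ℤ) = 1 by rw [zpow_ofNat, pow_two, hz], one_zpow]
      · right
        show z ^ (2 * m + 1) = z
        rw [zpow_add, zpow_mul, show z ^ (2 : ℤ) = 1 by rw [zpow_ofNat, pow_two, hz], one_zpow, one_mul, zpow_one]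
    · rintro (rfl | rfl)
      · exact one_mem _
      · exact mem_zpowers _
  rw [mem_normalizer_iff]
  constructor
  · intro h
    have h1 := (h z).1 (mem_zpowers z)
    rcases (hmem _).1 h1 with h2 | h2
    · have h3 : z = 1 := by
        have := congrArg (fun w => g⁻¹ * w * g) h2
        simpa [mul_assoc] using this
      rw [h3, mul_one, one_mul]
    · rw [mul_inv_eq_iff_eq_mul] at h2
      exact h2
  · intro h w
    have h4 : g * z * g⁻¹ = z := by rw [h, mul_assoc, mul_inv_cancel, mul_one]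
    rw [hmem, hmem]
    constructor
    · rintro (rfl | rfl)
      · left; simp
      · right; exact h4
    · rintro (h5 | h5)
      · left
        have := congrArg (fun w => g⁻¹ * w * g) h5
        simpa [mul_assoc] using this
      · right
        have h6 : g * w * g⁻¹ = g * z * g⁻¹ := by rw [h5, h4]
        exact mul_left_cancel (mul_right_cancel h6)

theorem exists_ne_one (h : E8 D) : ∃ z ∈ D, z ≠ 1 := by
  by_contra hc
  push_neg at hc
  have h1 : D = ⊥ := (eq_bot_iff_forall D).2 hc
  have h2 := h.card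
  rw [h1, card_bot] at h2
  norm_num at h2

/-- characteristic two local subgroups -/
theorem card_two_of_locChar [Finite S] (hl : Cfsg.Agent.BpLieP.Big.LocChar 2 S) (hc : Cfg0 D x) :
    (Nat.card S).factorization 2 = 3 := by
  obtain ⟨z, hz, hz1⟩ := exists_ne_one hc.e8
  have hzz := hc.e8.inv z hz
  obtain ⟨Z, hZ⟩ : ∃ Z : Subgroup S, Z = zpowers z := ⟨_, rfl⟩
  obtain ⟨N, hN⟩ : ∃ N : Subgroup S, N = normalizer (Z : Set S) := ⟨_, rfl⟩
  have hNm : ∀ g : S, g ∈ N ↔ g * z = z * g := by
    intro g; rw [hN, hZ]; exact mem_normalizer_zpowers hzz g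
  have hZ2 : IsPGroup 2 Z := by
    refine IsPGroup.of_card (n := 1) ?_
    rw [hZ, Nat.card_zpowers, pow_one]
    exact orderOf_eq_prime (by rw [pow_two, hzz]) hz1
  have hZ1 : Z ≠ ⊥ := by
    rw [hZ]
    intro h0
    exact hz1 (zpowers_eq_bot.1 h0)
  have hch := hl Z hZ2 hZ1
  rw [← hN] at hch
  haveI : Fact (Nat.Prime 2) := ⟨Nat.prime_two⟩
  haveI hOn : (pCore 2 ↥N).Normal := Lib.Cores.pCore_normal 2
  refine (D1 hc hz (N := (pCore 2 ↥N).map N.subtype) ((Lib.Cores.pCore_isPGroup 2).map _) ?_ ?_ ?_).2.1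
  · rintro _ ⟨n, -, rfl⟩
    exact mem_centralizer_singleton_iff.2 ((hNm _).1 n.2)
  · rintro c hcz _ ⟨n, hn, rfl⟩
    have hcN : c ∈ N := (hNm c).2 (mem_centralizer_singleton_iff.1 hcz)
    exact ⟨⟨c, hcN⟩ * n * ⟨c, hcN⟩⁻¹, hOn.conj_mem n hn _, rfl⟩
  · intro c hcz hcn
    have hcN : c ∈ N := (hNm c).2 (mem_centralizer_singleton_iff.1 hcz)
    refine ⟨⟨c, hcN⟩, hch ?_, rfl⟩
    rw [mem_centralizer_iff]
    intro n hn
    exact Subtype.ext (hcn n ⟨n, hn, rfl⟩)

/-- TI Sylow 2-subgroups -/
theorem card_two_of_ti [Finite S]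
    (ht : ∀ (P : Sylow 2 S) (g : S), (∃ y ∈ (P : Subgroup S), y ≠ 1 ∧ g⁻¹ * y * g ∈ (P : Subgroup S)) →
      ∀ y ∈ (P : Subgroup S), g⁻¹ * y * g ∈ (P : Subgroup S)) (hc : Cfg0 D x) :
    (Nat.card S).factorization 2 = 3 := by
  haveI : Fact (Nat.Prime 2) := ⟨Nat.prime_two⟩
  have hDp : IsPGroup 2 D := IsPGroup.of_card (n := 3) (by rw [hc.e8.card]; norm_num)
  obtain ⟨P, hP⟩ := hDp.exists_le_sylow
  have hDc := E8.comm hc.e8
  obtain ⟨z, hz, hz1⟩ := exists_ne_one hc.e8
  -- `C_P(w) = D` for `w ∈ D#`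
  have h1 : ∀ w ∈ D, w ≠ 1 → ∀ g ∈ (P : Subgroup S), g * w = w * g → g ∈ D := by
    intro w hw hw1
    have h2 : ((P : Subgroup S) ⊓ centralizer ({w} : Set S)) ≤ D := by
      refine rad_single hc hw (P.isPGroup'.to_le inf_le_left) inf_le_right ?_
      rintro c hcw n ⟨hnP, hnw⟩
      have hnw' : n ∈ centralizer ({w} : Set S) := hnw
      refine ⟨?_, (centralizer ({w} : Set S)).mul_mem ((centralizer ({w} : Set S)).mul_mem hcw hnw')
        ((centralizer ({w} : Set S)).inv_mem hcw)⟩
      have h3 := ht P c⁻¹ ⟨w, hP hw, hw1, by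
        rw [inv_inv, (mem_centralizer_singleton_iff.1 hcw), mul_assoc, mul_inv_cancel, mul_one]
        exact hP hw⟩ n hnP
      rwa [inv_inv] at h3
    intro g hg hgw
    exact h2 ⟨hg, mem_centralizer_singleton_iff.2 hgw⟩
  -- the centre of `P`
  haveI : Nontrivial ↥(P : Subgroup S) := by
    refine ⟨⟨⟨z, hP hz⟩, 1, ?_⟩⟩
    intro h3
    exact hz1 (congrArg Subtype.val h3)
  haveI : Nontrivial ↥(center ↥(P : Subgroup S)) := P.isPGroup'.center_nontrivial
  obtain ⟨c, hc1⟩ := exists_ne (1 : ↥(center ↥(P : Subgroup S)))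
  obtain ⟨⟨c, hcP⟩, hcZ⟩ := c
  have hc1' : c ≠ 1 := fun h3 => hc1 (by subst h3; rfl)
  have hcc : ∀ g ∈ (P : Subgroup S), g * c = c * g := by
    intro g hg
    exact congrArg Subtype.val (mem_center_iff.1 hcZ ⟨g, hg⟩)
  have hcD : c ∈ D := h1 z hz hz1 c hcP (hcc z (hP hz)).symm
  have hPD : (P : Subgroup S) ≤ D := fun g hg => h1 c hcD hc1' g hg (hcc g hg)
  have h4 : (P : Subgroup S) = D := le_antisymm hPD hP
  have h5 : Nat.card (P : Subgroup S) = 2 ^ (Nat.card S).factorization 2 := Sylow.card_eq_multiplicity P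
  rw [h4, hc.e8.card] at h5
  exact (Nat.pow_right_injective (le_refl 2) (by simpa using h5)).symm

/-- no simple group of order less than 256 with a configuration -/
theorem small [Finite S] [IsSimpleGroup S] (hc : Cfg0 D x) (h3 : (Nat.card S).factorization 2 = 3)
    (hlt : Nat.card S < 256) : False := by
  obtain ⟨y, hy⟩ := hc.seven
  obtain ⟨N, hN⟩ : ∃ N : Subgroup S, N = normalizer (D : Set S) := ⟨_, rfl⟩
  have hyN : y ∈ N := by
    rw [hN, mem_normalizer_iff]
    exact fun d => (hy.norm d).symm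
  have hDN : D ≤ N := by rw [hN]; exact le_normalizer
  -- `y ≠ 1`
  have hy7 : 7 ∣ orderOf y := by
    obtain ⟨m, hm⟩ := hy.seven
    rcases Nat.eq_zero_or_pos m with h0 | h0
    · exfalso
      rw [h0, pow_zero, orderOf_eq_one_iff] at hm
      obtain ⟨z, hz, hz1⟩ := exists_ne_one hc.e8
      have h5 : ∀ w ∈ D, w = 1 ∨ w = z := by
        intro w hw
        by_cases hw1 : w = 1
        · exact Or.inl hw1
        · right
          obtain ⟨k, hk⟩ := hy.trans z hz hz1 w hw hw1
          rw [hm, one_pow, one_mul, inv_one, mul_one] at hk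
          exact hk.symm
      have h6 : (D : Set S) ⊆ {1, z} := by
        intro w hw
        rcases h5 w hw with h | h
        · left; exact h
        · right; exact h
      have h7 : Nat.card D ≤ 2 := by
        have h8 := Set.ncard_le_ncard h6 (Set.toFinite _)
        have h9 : (({1, z} : Set S)).ncard ≤ 2 := Set.ncard_insert_le _ _ |>.trans (by rw [Set.ncard_singleton])
        exact h8.trans h9
      rw [hc.e8.card] at h7
      norm_num at h7
    · rw [hm]
      exact dvd_pow_self 7 (Nat.pos_iff_ne_zero.1 h0)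
  have h7N : 7 ∣ Nat.card N := by
    have h5 : orderOf y = orderOf (⟨y, hyN⟩ : N) := (Subgroup.orderOf_mk y hyN).symm
    rw [h5] at hy7
    exact hy7.trans (orderOf_dvd_natCard _)
  have h8N : 8 ∣ Nat.card N := by
    rw [← hc.e8.card]
    exact card_dvd_of_le hDN
  have h56 : 56 ∣ Nat.card N := (Nat.Coprime.mul_dvd_of_dvd_of_dvd (by norm_num : Nat.Coprime 7 8) h7N h8N)
  obtain ⟨a, ha⟩ := h56
  have hidx : Nat.card N * N.index = Nat.card S := card_mul_index N
  have hpos : 0 < Nat.card S := Nat.card_pos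
  have hi0 : N.index ≠ 0 := by
    intro h0; rw [h0, mul_zero] at hidx; omega
  have ha0 : a ≠ 0 := by
    intro h0; rw [h0, mul_zero] at ha; rw [ha, zero_mul] at hidx; omega
  -- 16 does not divide |S|
  have h16 : ¬ 16 ∣ Nat.card S := by
    intro h
    have h5 : (2 : ℕ) ^ 4 ∣ Nat.card S := by simpa using h
    have h6 := (Nat.Prime.pow_dvd_iff_le_factorization Nat.prime_two hpos.ne').1 h5
    omega
  have hcase : N.index = 1 ∨ N.index = 3 := by
    rw [← hidx, ha] at hlt h16
    have h5 : a * N.index ≤ 4 := by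
      by_contra h6
      push_neg at h6
      nlinarith
    have h6 : N.index ≤ 4 := le_trans (Nat.le_mul_of_pos_left _ (Nat.pos_of_ne_zero ha0)) h5
    have h7 : a ≤ 4 := le_trans (Nat.le_mul_of_pos_right _ (Nat.pos_of_ne_zero hi0)) h5
    generalize N.index = i at *
    interval_cases i <;> omega
  rcases hcase with h1 | h1
  · -- `D` is normal
    have hNt : N = ⊤ := index_eq_one.1 h1
    haveI : D.Normal := by
      constructor
      intro d hd g
      have h5 : g ∈ N := by rw [hNt]; trivial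
      rw [hN, mem_normalizer_iff] at h5
      exact (h5 d).1 hd
    rcases (inferInstance : D.Normal).eq_bot_or_eq_top with h5 | h5
    · have h6 := hc.e8.card
      rw [h5, card_bot] at h6
      norm_num at h6
    · have h6 := hc.e8.card
      rw [h5, card_top] at h6
      rw [hNt, card_top] at ha
      omega
  · -- index three
    have h5 : N.normalCore = ⊥ ∨ N.normalCore = ⊤ := (normalCore_normal N).eq_bot_or_eq_top
    rcases h5 with h5 | h5
    · have h6 : Function.Injective (MulAction.toPermHom S (S ⧸ N)) := by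
        rw [← MonoidHom.ker_eq_bot_iff, ← normalCore_eq_ker]
        exact h5
      have h7 := Nat.card_le_card_of_injective _ h6
      haveI : Fintype (S ⧸ N) := Fintype.ofFinite _
      rw [Nat.card_perm] at h7
      have h8 : Nat.card (S ⧸ N) = 3 := h1
      rw [h8] at h7
      have h9 : 56 ≤ Nat.card S := by
        rw [← hidx, ha, h1]
        omega
      have h10 : Nat.factorial 3 = 6 := rfl
      omega
    · have h6 : (⊤ : Subgroup S) ≤ N := h5 ▸ normalCore_le N
      have h7 : N = ⊤ := top_le_iff.1 h6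
      rw [h7, index_top] at h1
      norm_num at h1

/-- **The row of the groups of Lie type of characteristic two.** -/
theorem E_lie2' {S : Type u} [Group S] [Finite S] [IsSimpleGroup S] (h : IsLieTypeChar 2 S) {D : Subgroup S} {x : S}
    (hc : Cfg0 D x) : Nonempty (S ≃* Matrix.ProjectiveSpecialLinearGroup (Fin 2) (GaloisField 2 3)) := by
  haveI : Fact (Nat.Prime 2) := ⟨Nat.prime_two⟩
  have h3 : (Nat.card S).factorization 2 = 3 := by
    by_cases hsz : Lie.IsoSuzuki S
    · exact card_two_of_ti (fun P g => H400.LieLocal.ti_of_suzuki hsz P g) hc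
    · exact card_two_of_locChar (H400.LieLocal.local_char_of_lie h (fun h1 => hsz h1.2)) hc
  rcases H126.OrdEight.lie_eight Nat.prime_two h with h1 | ⟨⟨F, _, _, hF, ⟨e⟩⟩, -⟩
  · exfalso
    rw [h3] at h1
    refine small hc h3 ?_
    by_contra h4
    push_neg at h4
    have h5 : 256 ^ 3 ≤ Nat.card S ^ 3 := Nat.pow_le_pow_left h4 3
    norm_num at h1 h5
    omega
  · rw [h3] at hF
    have hcard : Fintype.card F = 2 ^ 3 := hF
    haveI : Finite (GaloisField 2 3) := inferInstance
    haveI : Fintype (GaloisField 2 3) := Fintype.ofFinite _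
    have hG : Fintype.card (GaloisField 2 3) = 2 ^ 3 := by
      rw [← Nat.card_eq_fintype_card]
      exact GaloisField.card 2 3 (by norm_num)
    have f : F ≃+* GaloisField 2 3 := FiniteField.ringEquivOfCardEq (hcard.trans hG.symm)
    exact ⟨e.trans (LieClassical.FieldTransfer.pslCongr f)⟩

theorem E_lie2 {S : Type} [Group S] [Finite S] [IsSimpleGroup S] (h : IsLieTypeChar 2 S) {D : Subgroup S} {x : S}
    (hc : Cfg0 D x) : Nonempty (S ≃* Matrix.ProjectiveSpecialLinearGroup (Fin 2) (GaloisField 2 3)) :=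
  E_lie2' h hc

end Cfsg.Agent.H323.KKL
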